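import Cfsg.Agent.PLocal.PSolvable
import Cfsg.Agent.OddOrder.BG1Stab
import Cfsg.Agent.Coprime.SchurZassenhaus
import Cfsg.Agent.Solvable.Basic
import Cfsg.Prelude.Def_Local

/-!
The theorem of Gaschütz and Yen: a `p`-soluble group, `p` odd, whose automorphisms permute the
subgroups of order `p` transitively has `p`-length at most one.
-/

set_option autoImplicit false

open Subgroup

universe u

set_option linter.style.haveILetI false

namespace CfsgLib.GaschutzYen

variable {G : Type u} [Group G] [Finite G] {p : ℕ} [hp : Fact p.Prime]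

/-- `Aut G` permutes the subgroups of order `p` transitively. -/
def TransitiveOnOrder (p : ℕ) (G : Type u) [Group G] : Prop :=
  ∀ U V : Subgroup G, Nat.card U = p → Nat.card V = p → ∃ a : MulAut G, U.map a.toMonoidHom = V

theorem exists_mem_aut {G : Type u} [Group G] {p : ℕ} (h : TransitiveOnOrder p G) {u v : G}
    (hu : orderOf u = p) (hv : orderOf v = p) :
    ∃ (a : MulAut G) (k : ℤ), a (u ^ k) = v := by
  obtain ⟨a, ha⟩ := h (zpowers u) (zpowers v) (by rw [Nat.card_zpowers, hu])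
    (by rw [Nat.card_zpowers, hv])
  have hv' : v ∈ (zpowers u).map a.toMonoidHom := ha ▸ mem_zpowers v
  obtain ⟨w, ⟨k, rfl⟩, hk⟩ := hv'
  exact ⟨a, k, hk⟩

omit hp in
/-- An element of order `p` can be lifted through a quotient of order prime to `p`. -/
theorem exists_lift [Fact p.Prime] (N : Subgroup G) [N.Normal] (hN : (Nat.card N).Coprime p)
    {u : G ⧸ N} (hu : orderOf u = p) :
    ∃ x : G, orderOf x = p ∧ zpowers (x : G ⧸ N) = zpowers u := by
  obtain ⟨g, rfl⟩ := QuotientGroup.mk_surjective u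
  have hp' : p.Prime := Fact.out
  have hdvd : p ∣ orderOf g := hu ▸ orderOf_map_dvd (QuotientGroup.mk' N) g
  refine ⟨g ^ (orderOf g / p), orderOf_pow_orderOf_div (orderOf_pos g).ne' hdvd, ?_⟩
  set x := g ^ (orderOf g / p) with hx
  have hxo : orderOf x = p := orderOf_pow_orderOf_div (orderOf_pos g).ne' hdvd
  have hle : zpowers (x : G ⧸ N) ≤ zpowers (g : G ⧸ N) :=
    zpowers_le.mpr (by rw [hx, QuotientGroup.mk_pow]; exact pow_mem (mem_zpowers _) _)
  refine eq_of_le_of_card_ge hle ?_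
  rw [Nat.card_zpowers, Nat.card_zpowers, hu]
  rcases (Nat.dvd_prime hp').mp (hxo ▸ orderOf_map_dvd (QuotientGroup.mk' N) x) with h | h
  · exfalso
    have hxN : x ∈ N := (QuotientGroup.eq_one_iff x).mp (orderOf_eq_one_iff.mp h)
    exact hp'.not_dvd_one (hN.gcd_eq_one ▸ Nat.dvd_gcd (hxo ▸ N.orderOf_dvd_natCard hxN) dvd_rfl)
  · exact h.ge

omit hp in
theorem transitiveOnOrder_quotient [Fact p.Prime] (h : TransitiveOnOrder p G) (N : Subgroup G)
    [N.Normal] [hc : N.Characteristic] (hN : (Nat.card N).Coprime p) :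
    TransitiveOnOrder p (G ⧸ N) := by
  intro U V hU hV
  have : ∀ W : Subgroup (G ⧸ N), Nat.card W = p →
      ∃ x : G, orderOf x = p ∧ zpowers (x : G ⧸ N) = W := by
    intro W hW
    obtain ⟨w, hw⟩ := exists_prime_orderOf_dvd_card' (G := W) p (hW ▸ dvd_rfl)
    obtain ⟨x, hx, hxw⟩ := exists_lift N hN (u := (w : G ⧸ N)) (by rw [orderOf_coe, hw])
    refine ⟨x, hx, hxw.trans (eq_of_le_of_card_ge (zpowers_le.mpr w.2) ?_)⟩
    rw [Nat.card_zpowers, orderOf_coe, hw, hW]
  obtain ⟨x, hx, rfl⟩ := this U hU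
  obtain ⟨y, hy, rfl⟩ := this V hV
  obtain ⟨a, ha⟩ := h (zpowers x) (zpowers y) (by rw [Nat.card_zpowers, hx])
    (by rw [Nat.card_zpowers, hy])
  refine ⟨QuotientGroup.congr N N a (characteristic_iff_map_eq.mp hc a), ?_⟩
  rw [MonoidHom.map_zpowers]
  have h1 : zpowers (a x) = zpowers y := by
    rw [← ha, MonoidHom.map_zpowers]; rfl
  have h2 := congrArg (Subgroup.map (QuotientGroup.mk' N)) h1
  rw [MonoidHom.map_zpowers, MonoidHom.map_zpowers] at h2
  exact h2

/-- The case without normal `p'`-subgroup. -/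
theorem not_dvd_index_pCore (hp2 : p ≠ 2) (hG : Cfsg.IsPSolvable p G)
    (h : TransitiveOnOrder p G) (hO : Cfsg.pPrimeCore p G = ⊥) (hdvd : p ∣ Nat.card G) :
    ¬ p ∣ (Cfsg.pCore p G).index := by
  intro hidx
  have hp' : p.Prime := hp.out
  set P₀ := Cfsg.pCore p G with hP₀
  haveI hP₀c : P₀.Characteristic := PLocal.pCoreCharacteristic p G
  have hP₀p : IsPGroup p P₀ := PLocal.isPGroup_pCore p G
  have hcent : centralizer (P₀ : Set G) ≤ P₀ := PLocal.centralizer_pCore_le hG hO
  have hnt : Nontrivial G := Finite.one_lt_card_iff_nontrivial.mp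
    (hp'.one_lt.trans_le (Nat.le_of_dvd Nat.card_pos hdvd))
  have hne : P₀ ≠ ⊥ := (PLocal.pCore_ne_bot_or_of_isPSolvable hG).resolve_right (not_not.mpr hO)
  -- every element of order `p` is central in `O_p`
  obtain ⟨z, hz, hzo⟩ : ∃ z : G, (z ∈ P₀ ∧ ∀ b ∈ P₀, z * b = b * z) ∧ orderOf z = p := by
    have : Nontrivial P₀ := (nontrivial_iff_ne_bot _).mpr hne
    have hcne := hP₀p.center_nontrivial
    obtain ⟨n, hn⟩ := (hP₀p.to_subgroup (center P₀)).exists_card_eq
    have hn0 : n ≠ 0 := by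
      rintro rfl
      rw [pow_zero] at hn
      exact absurd hn (Finite.one_lt_card_iff_nontrivial.mpr hcne).ne'
    obtain ⟨w, hw⟩ := exists_prime_orderOf_dvd_card' (G := center P₀) p (hn ▸ dvd_pow_self p hn0)
    exact ⟨((w : P₀) : G), ⟨(w : P₀).2, fun b hb =>
      (congrArg Subtype.val (mem_center_iff.mp w.2 ⟨b, hb⟩)).symm⟩,
      by rw [orderOf_coe, orderOf_coe, hw]⟩
  have hord : ∀ u : G, orderOf u = p → u ∈ P₀ ∧ ∀ b ∈ P₀, u * b = b * u := by
    intro u hu
    obtain ⟨a, k, rfl⟩ := exists_mem_aut h hzo hu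
    refine ⟨?_, fun b hb => ?_⟩
    · rw [← characteristic_iff_map_eq.mp hP₀c a]
      exact mem_map_of_mem _ (P₀.zpow_mem hz.1 k)
    · rw [← characteristic_iff_map_eq.mp hP₀c a] at hb
      obtain ⟨b', hb', rfl⟩ := hb
      have hc : Commute (z ^ k) b' := (show Commute z b' from hz.2 b' hb').zpow_left k
      exact (hc.map a.toMonoidHom).eq
  -- the preimage of the `p'`-core of `G / O_p`
  have : Nontrivial (G ⧸ P₀) := Finite.one_lt_card_iff_nontrivial.mp (by
    rw [← index_eq_card]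
    exact hp'.one_lt.trans_le (Nat.le_of_dvd (Nat.pos_of_ne_zero index_ne_zero_of_finite) hidx))
  have hKbar : Cfsg.pPrimeCore p (G ⧸ P₀) ≠ ⊥ :=
    (PLocal.pCore_ne_bot_or_of_isPSolvable (PLocal.isPSolvable_quotient hG P₀)).resolve_left
      (not_not.mpr (PLocal.pCore_quotient_pCore_eq_bot p G))
  set K := (Cfsg.pPrimeCore p (G ⧸ P₀)).comap (QuotientGroup.mk' P₀) with hKdef
  have hP₀K : P₀ ≤ K := by
    intro x hx
    rw [hKdef, mem_comap, QuotientGroup.mk'_apply, (QuotientGroup.eq_one_iff x).mpr hx]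
    exact one_mem _
  have hrel : (P₀.relIndex K).Coprime p := by
    have h1 := relIndex_comap (f := QuotientGroup.mk' P₀) ⊥ K
    rw [MonoidHom.comap_bot, QuotientGroup.ker_mk', relIndex_bot_left, hKdef,
      map_comap_eq_self_of_surjective (QuotientGroup.mk'_surjective P₀)] at h1
    rw [hKdef, h1]
    exact PLocal.coprime_card_pPrimeCore p _
  have hKa : ∀ a : MulAut G, K.map a.toMonoidHom ≤ K := by
    intro a
    have hKn : (K.map a.toMonoidHom).Normal :=
      (inferInstance : K.Normal).map _ a.surjective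
    rw [hKdef, ← map_le_iff_le_comap]
    have : (((K.map a.toMonoidHom)).map (QuotientGroup.mk' P₀)).Normal :=
      hKn.map _ (QuotientGroup.mk'_surjective P₀)
    refine PLocal.le_pPrimeCore ?_
    have h2 : (P₀.map a.toMonoidHom).relIndex (K.map a.toMonoidHom) = P₀.relIndex K :=
      relIndex_map_map_of_injective _ _ a.injective
    rw [characteristic_iff_map_eq.mp hP₀c a] at h2
    refine Nat.Coprime.coprime_dvd_left ?_ hrel
    rw [← h2]
    have h3 := relIndex_comap (f := QuotientGroup.mk' P₀) ⊥ (K.map a.toMonoidHom)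
    rw [MonoidHom.comap_bot, QuotientGroup.ker_mk', relIndex_bot_left] at h3
    rw [h3]
  have hcop : (Nat.card (P₀.subgroupOf K)).Coprime (P₀.subgroupOf K).index := by
    rw [Nat.card_congr (subgroupOfEquivOfLe hP₀K).toEquiv]
    obtain ⟨n, hn⟩ := hP₀p.exists_card_eq
    rw [hn]
    exact hrel.symm.pow_left n
  obtain ⟨Q, hQ⟩ := exists_right_complement'_of_coprime hcop
  set Q₀ := Q.map K.subtype with hQ₀
  have hQK : Q₀ ≤ K := map_subtype_le _
  have hQinf : ∀ q ∈ Q₀, q ∈ P₀ → q = 1 := by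
    rintro _ ⟨q, hq, rfl⟩ hq'
    exact congrArg Subtype.val (mem_bot.mp (hQ.disjoint.eq_bot ▸
      (show q ∈ P₀.subgroupOf K ⊓ Q from ⟨hq', hq⟩)))
  have hKPQ : ∀ k ∈ K, ∃ b ∈ P₀, ∃ q ∈ Q₀, k = b * q := by
    intro k hk
    obtain ⟨⟨b, q⟩, e⟩ := hQ.surjective ⟨k, hk⟩
    exact ⟨((b : K) : G), b.2, ((q : K) : G), mem_map_of_mem _ q.2, (congrArg Subtype.val e).symm⟩
  have hQne : Q₀ ≠ ⊥ := by
    intro e
    refine hKbar ?_
    rw [← map_comap_eq_self_of_surjective (QuotientGroup.mk'_surjective P₀)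
      (Cfsg.pPrimeCore p (G ⧸ P₀)), ← hKdef, Subgroup.map_eq_bot_iff, QuotientGroup.ker_mk']
    intro k hk
    obtain ⟨b, hb, q, hq, rfl⟩ := hKPQ k hk
    rw [e, mem_bot] at hq
    rwa [hq, mul_one]
  -- `Q₀` fixes no element of order `p` of `O_p`
  have hfix : ∀ u ∈ P₀, (∀ q ∈ Q₀, q * u = u * q) → orderOf u ≠ p := by
    intro u _ huQ hu
    have hall : ∀ x : G, orderOf x = p → ∀ q ∈ Q₀, x * q = q * x := by
      intro x hx q hq
      obtain ⟨a, k, rfl⟩ := exists_mem_aut h hu hx
      have hq' : q ∈ K := hQK hq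
      have hKeq : K.map a.toMonoidHom = K := eq_of_le_of_card_ge (hKa a) (by
        rw [← Nat.card_congr (equivMapOfInjective K _ a.injective).toEquiv])
      rw [← hKeq] at hq'
      obtain ⟨w, hw, rfl⟩ := hq'
      have hwu : Commute u w := by
        obtain ⟨b, hb, r, hr, rfl⟩ := hKPQ w hw
        exact (show Commute u b from (hord u hu).2 b hb).mul_right (huQ r hr).symm
      exact ((hwu.zpow_left k).map a.toMonoidHom).eq
    have hQc : (Nat.card Q₀).Coprime p := by
      rw [hQ₀, card_map_of_injective K.subtype_injective]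
      rw [← hQ.symm.index_eq_card]
      exact hrel
    have hle : Q₀ ≤ centralizer (P₀ : Set G) := by
      refine OddOrder.Stab.le_centralizer_of_fix_prime_order_in_centralizer hp2 hP₀p
        (bot_le (a := P₀)) ⟨⟨fun a b => Subsingleton.elim _ _⟩⟩ ?_ ?_ hQc ?_
      · intro e he
        rw [mem_bot.mp he, one_pow]
      · rw [normalizer_eq_top_iff.mpr (inferInstance : P₀.Normal)]
        exact le_top
      · rintro x ⟨-, -⟩ hx q hq
        rw [mem_centralizer_singleton_iff]
        rcases (Nat.dvd_prime hp').mp (orderOf_dvd_of_pow_eq_one hx) with h1 | h1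
        · rw [orderOf_eq_one_iff.mp h1, mul_one, one_mul]
        · exact (hall x h1 q hq).symm
    exact hQne ((eq_bot_iff_forall _).mpr fun q hq => hQinf q hq (hcent (hle hq)))
  -- Frattini argument
  set N := normalizer (Q₀ : Set G) with hN
  have hNinf : ∀ u ∈ N, u ∈ P₀ → u = 1 := by
    intro u huN huP
    by_contra hu1
    obtain ⟨k, hk⟩ := IsPGroup.iff_orderOf.mp hP₀p ⟨u, huP⟩
    rw [orderOf_mk] at hk
    have hdv : p ∣ orderOf u := by
      rcases Nat.eq_zero_or_pos k with rfl | hk0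
      · exact absurd (orderOf_eq_one_iff.mp (hk.trans (pow_zero p))) hu1
      · exact hk ▸ dvd_pow_self p hk0.ne'
    refine hfix _ (P₀.pow_mem huP (orderOf u / p)) (fun q hq => ?_)
      (orderOf_pow_orderOf_div (orderOf_pos u).ne' hdv)
    have h1 : u * q * u⁻¹ * q⁻¹ ∈ Q₀ :=
      Q₀.mul_mem ((mem_normalizer_iff.mp huN q).mp hq) (Q₀.inv_mem hq)
    have h2 : u * q * u⁻¹ * q⁻¹ ∈ P₀ := by
      rw [mul_assoc, mul_assoc]
      refine P₀.mul_mem huP ?_
      rw [← mul_assoc]
      exact (inferInstance : P₀.Normal).conj_mem _ (P₀.inv_mem huP) q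
    have h3 := hQinf _ h1 h2
    rw [mul_inv_eq_one, mul_inv_eq_iff_eq_mul] at h3
    exact ((show Commute q u from h3.symm).pow_right _).eq
  have hsup : P₀ ⊔ N = ⊤ := by
    rw [eq_top_iff]
    intro g _
    have hQ' : Subgroup.IsComplement' (P₀.subgroupOf K)
        ((Q₀.map (MulAut.conj g).toMonoidHom).subgroupOf K) := by
      have hgK : Q₀.map (MulAut.conj g).toMonoidHom ≤ K := by
        rintro _ ⟨q, hq, rfl⟩
        exact (inferInstance : K.Normal).conj_mem q (hQK hq) g
      refine isComplement'_of_card_mul_and_disjoint ?_ ?_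
      · rw [Nat.card_congr (subgroupOfEquivOfLe hgK).toEquiv,
          card_map_of_injective (MulAut.conj g).injective, hQ₀,
          card_map_of_injective K.subtype_injective]
        exact hQ.card_mul_card
      · rw [disjoint_iff, eq_bot_iff]
        rintro x ⟨hxP, q, hq, hqx⟩
        have hqP : q ∈ P₀ := by
          have := (inferInstance : P₀.Normal).conj_mem _ hxP g⁻¹
          rw [show K.subtype x = g * q * g⁻¹ from hqx.symm] at this
          simpa [mul_assoc] using this
        refine Subtype.ext ?_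
        change K.subtype x = 1
        rw [show K.subtype x = g * q * g⁻¹ from hqx.symm, hQinf q hq hqP]
        simp
    haveI : (P₀.subgroupOf K).Normal := normal_subgroupOf
    have hsol : Group.IsSolvable (P₀.subgroupOf K) := by
      have := (hP₀p.of_equiv (subgroupOfEquivOfLe hP₀K).symm).isNilpotent
      infer_instance
    obtain ⟨k, hk, e⟩ := Coprime.exists_conj_eq_of_isComplement' hcop (Or.inl hsol) hQ hQ'
    have hmap := congrArg (map K.subtype) e
    rw [subgroupOf_map_subtype, inf_eq_left.mpr (by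
      rintro _ ⟨q, hq, rfl⟩
      exact (inferInstance : K.Normal).conj_mem q (hQK hq) g),
      Solvable.map_subtype_conj_smul, ← hQ₀] at hmap
    have hN' : (k : G)⁻¹ * g ∈ N := by
      rw [hN, mem_normalizer_iff_map_conj_eq, map_mul]
      change Q₀.map ((MulAut.conj (k : G)⁻¹).toMonoidHom.comp (MulAut.conj g).toMonoidHom) = Q₀
      rw [← map_map, ← hmap, map_inv]
      ext x
      simp [Subgroup.mem_pointwise_smul_iff_inv_smul_mem, MulAut.conj]
      refine ⟨fun ⟨y, hy, hyx⟩ => hyx ▸ hy, fun hx => ⟨(k : G) * x * (k : G)⁻¹, ?_, ?_⟩⟩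
      · simpa [mul_assoc] using hx
      · group
    rw [show g = (k : G) * ((k : G)⁻¹ * g) by group]
    exact mul_mem_sup hk hN'
  have hcardN : p ∣ Nat.card N := by
    refine hidx.trans ?_
    rw [index_eq_card, ← card_top (G := G ⧸ P₀),
      ← map_top_of_surjective _ (QuotientGroup.mk'_surjective P₀), ← hsup, Subgroup.map_sup,
      QuotientGroup.map_mk'_self, bot_sup_eq]
    exact card_map_dvd _ _
  obtain ⟨u, hu⟩ := exists_prime_orderOf_dvd_card' (G := N) p hcardN
  rw [← orderOf_coe] at hu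
  have h1 := hNinf u u.2 (hord u hu).1
  rw [h1, orderOf_one] at hu
  exact hp'.one_lt.ne hu

/-- **Gaschütz–Yen.** -/
theorem pLengthLE_one (hp2 : p ≠ 2) (hG : Cfsg.IsPSolvable p G) (h : TransitiveOnOrder p G) :
    Cfsg.PLengthLE p 1 G := by
  set U₁ := (Cfsg.upperPSeries p G 1).1 with hU₁
  haveI : U₁.Normal := (Cfsg.upperPSeries p G 1).2
  have e1 : U₁ = Cfsg.pPrimeCore p G := by
    show (Cfsg.pPrimeCore p (G ⧸ (⊥ : Subgroup G))).comap (QuotientGroup.mk' ⊥) = _
    exact PLocal.comap_pPrimeCore_quotient ⊥ (by simp)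
  have hb : Cfsg.pPrimeCore p (G ⧸ U₁) = ⊥ := by
    clear_value U₁
    subst e1
    exact PLocal.pPrimeCore_quotient_pPrimeCore_eq_bot p G
  have hd' : ¬ p ∣ (Cfsg.pCore p (G ⧸ U₁)).index := by
    by_cases hdvd : p ∣ Nat.card (G ⧸ U₁)
    · haveI : U₁.Characteristic := e1 ▸ PLocal.pPrimeCoreCharacteristic p G
      exact not_dvd_index_pCore hp2 (PLocal.isPSolvable_quotient hG U₁)
        (transitiveOnOrder_quotient h U₁ (e1 ▸ PLocal.coprime_card_pPrimeCore p G)) hb hdvd
    · exact fun hd => hdvd (hd.trans (index_dvd_card _))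
  set U₂ := (Cfsg.upperPSeries p G 2).1 with hU₂
  haveI : U₂.Normal := (Cfsg.upperPSeries p G 2).2
  have e2 : U₂ = (Cfsg.pCore p (G ⧸ U₁)).comap (QuotientGroup.mk' U₁) := rfl
  have hd : ¬ p ∣ U₂.index := by
    rwa [e2, index_comap_of_surjective _ (QuotientGroup.mk'_surjective U₁)]
  show (Cfsg.pPrimeCore p (G ⧸ U₂)).comap (QuotientGroup.mk' U₂) = ⊤
  rw [eq_top_iff]
  intro g _
  rw [mem_comap]
  exact le_sSup (show (⊤ : Subgroup (G ⧸ U₂)) ∈ {N : Subgroup (G ⧸ U₂) | N.Normal ∧
    (Nat.card N).Coprime p} from ⟨inferInstance, by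
      rw [card_top, ← index_eq_card]
      exact (hp.out.coprime_iff_not_dvd.2 hd).symm⟩) (mem_top _)

end CfsgLib.GaschutzYen
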